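import Groth.Agent.QCTopos.Deligne
import Mathlib.AlgebraicGeometry.Sites.Proetale
import Mathlib.AlgebraicGeometry.Morphisms.Affine
import Mathlib.CategoryTheory.Sites.Point.Map
import Mathlib.CategoryTheory.Sites.DenseSubsite.InducedTopology
import Mathlib.CategoryTheory.Limits.FullSubcategory

/-! # The small pro-etale site has enough points (via Deligne on affine objects) -/

set_option autoImplicit false
set_option linter.all false
set_option backward.isDefEq.respectTransparency false
set_option backward.defeqAttrib.useBackward true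

universe u

open CategoryTheory CategoryTheory.Limits AlgebraicGeometry Opposite

namespace Groth.Agent.ProEtS

variable (S : Scheme.{u})

/-- affine objects of the small pro-etale site -/
def affineProp : ObjectProperty S.ProEt := fun U => IsAffine U.left

/-- the category of affine weakly etale schemes over `S` -/
abbrev AffProEt : Type (u + 1) := (affineProp S).FullSubcategory

abbrev incl : AffProEt S ⥤ S.ProEt := (affineProp S).ι

/-- the functor to schemes -/
abbrev toSch : S.ProEt ⥤ Scheme.{u} := Scheme.ProEt.forget S ⋙ Over.forget S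

instance (U : AffProEt S) : IsAffine U.obj.left := U.property

instance : (affineProp S).IsClosedUnderIsomorphisms where
  of_iso {X Y} e (hX : IsAffine X.left) := by
    haveI : IsAffine ((toSch S).obj X) := hX
    exact IsAffine.of_isIso ((toSch S).mapIso e.symm).hom

instance : PreservesLimitsOfShape WalkingCospan (toSch S) := by
  unfold toSch; infer_instance

instance : (affineProp S).IsClosedUnderLimitsOfShape WalkingCospan := by
  refine ⟨fun X hX => ?_⟩
  obtain ⟨h⟩ := hX
  let F := h.diag ⋙ toSch S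
  have hc := isLimitOfPreserves (toSch S) h.isLimit
  haveI : IsAffine (F.obj .left) := h.prop_diag_obj _
  haveI : IsAffine (F.obj .right) := h.prop_diag_obj _
  haveI : IsAffine (F.obj .one) := h.prop_diag_obj _
  let e : ((toSch S).mapCone h.cone).pt ≅ pullback (F.map WalkingCospan.Hom.inl) (F.map WalkingCospan.Hom.inr) :=
    hc.conePointUniqueUpToIso (limit.isLimit F) ≪≫ HasLimit.isoOfNatIso (diagramIsoCospan F)
  exact IsAffine.of_isIso e.hom

instance : HasPullbacks (AffProEt S) := inferInstanceAs (HasLimitsOfShape WalkingCospan (AffProEt S))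

variable {S}

/-- an affine piece mapping to `U` -/
noncomputable def piece {U : S.ProEt} {V : Scheme.{u}} (f : V ⟶ U.left) [IsAffine V] [WeaklyEtale (f ≫ U.hom)] :
    AffProEt S :=
  ⟨Scheme.ProEt.mk (f ≫ U.hom), ‹IsAffine V›⟩

noncomputable def pieceMap {U : S.ProEt} {V : Scheme.{u}} (f : V ⟶ U.left) [IsAffine V] [WeaklyEtale (f ≫ U.hom)] :
    (piece f).obj ⟶ U :=
  (Scheme.ProEt.forgetFullyFaithful S).preimage (Over.homMk f rfl)

@[simp] lemma toSch_pieceMap {U : S.ProEt} {V : Scheme.{u}} (f : V ⟶ U.left) [IsAffine V] [WeaklyEtale (f ≫ U.hom)] :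
    (toSch S).map (pieceMap f) = f := by
  simp [pieceMap]
  rfl

lemma generate_mem {U : S.ProEt} {ι : Type*} (W : ι → S.ProEt) (g : ∀ i, W i ⟶ U)
    (h : Presieve.ofArrows _ (fun i => (toSch S).map (g i)) ∈ Scheme.proetalePrecoverage U.left) :
    Sieve.ofArrows W g ∈ Scheme.ProEt.topology S U := by
  apply Precoverage.generate_mem_toGrothendieck
  show Presieve.ofArrows W g ∈ Precoverage.comap (toSch S) Scheme.proetalePrecoverage U
  rw [Precoverage.mem_comap_iff, Presieve.map_ofArrows]
  exact h

instance : (incl S).IsCoverDense (Scheme.ProEt.topology S) where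
  is_cover U := by
    let 𝒰 := U.left.affineCover
    haveI : ∀ i, WeaklyEtale (𝒰.f i ≫ U.hom) := fun i => inferInstance
    refine (Scheme.ProEt.topology S).superset_covering ?_
      (generate_mem (fun i => (piece (𝒰.f i)).obj) (fun i => pieceMap (𝒰.f i)) ?_)
    · rw [Sieve.ofArrows, Sieve.generate_le_iff]
      rintro _ _ ⟨i⟩
      exact ⟨⟨piece (𝒰.f i), 𝟙 _, pieceMap (𝒰.f i), Category.id_comp _⟩⟩
    · simp only [toSch_pieceMap]
      exact Scheme.zariskiPrecoverage_le_propQCPrecoverage _ 𝒰.mem₀

variable (S)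

/-- topology on affine objects -/
abbrev affTopology : GrothendieckTopology (AffProEt S) :=
  (incl S).inducedTopology (Scheme.ProEt.topology S)

variable {S}

lemma finite_covers (U : AffProEt S) (R : Sieve U) (hR : R ∈ affTopology S U) :
    ∃ (n : ℕ) (V : Fin n → AffProEt S) (g : ∀ k, V k ⟶ U),
      (∀ k, R (g k)) ∧ Sieve.ofArrows V g ∈ affTopology S U := by
  rw [Functor.mem_inducedTopology_iff_of_isCoverDense] at hR
  have hS := (CoverPreserving.of_isContinuous (toSch S) (Scheme.ProEt.topology S) Scheme.proetaleTopology).cover_preserve hR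
  rw [← Sieve.functorPushforward_comp] at hS
  obtain ⟨P, hP, hle⟩ := Precoverage.mem_toGrothendieck_iff_of_isStableUnderComposition.1 hS
  obtain ⟨𝒰, hqc, rfl⟩ := Scheme.mem_propQCPrecoverage_iff_exists_quasiCompactCover.1 hP
  haveI := hqc
  obtain ⟨n, a, W, hW, hcov⟩ := QuasiCompactCover.exists_isAffineOpen_of_isCompact 𝒰.toPreZeroHypercover
    (U := ⊤) (isAffineOpen_top U.obj.left).isCompact
  let m : ∀ k, (W k).toScheme ⟶ U.obj.left := fun k => (W k).ι ≫ 𝒰.f (a k)
  haveI : ∀ k, IsAffine (W k).toScheme := fun k => hW k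
  haveI hm : ∀ k, WeaklyEtale (m k) := fun k => inferInstance
  haveI : ∀ k, WeaklyEtale (m k ≫ U.obj.hom) := fun k => inferInstance
  refine ⟨n, fun k => piece (m k), fun k => ObjectProperty.homMk (pieceMap (m k)), fun k => ?_, ?_⟩
  · obtain ⟨Z, g, h, hg, e⟩ := hle _ _ (Presieve.ofArrows.mk (a k))
    let h' : (W k).toScheme ⟶ Z.obj.left := (W k).ι ≫ h
    have e' : m k = h' ≫ (toSch S).map g.hom := by
      dsimp [m, h']
      rw [Category.assoc]
      exact congrArg ((W k).ι ≫ ·) e
    have hw : h' ≫ Z.obj.hom = m k ≫ U.obj.hom := by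
      rw [e', Category.assoc]
      exact congrArg (h' ≫ ·) (Over.w ((Scheme.ProEt.forget S).map g.hom)).symm
    let q : piece (m k) ⟶ Z := ObjectProperty.homMk
      ((Scheme.ProEt.forgetFullyFaithful S).preimage (Over.homMk h' hw))
    have hq : ObjectProperty.homMk (pieceMap (m k)) = q ≫ g := by
      ext : 1
      apply (toSch S).map_injective
      refine (toSch_pieceMap (m k)).trans ?_
      refine e'.trans ?_
      show h' ≫ _ = (toSch S).map (q.hom ≫ g.hom)
      rw [Functor.map_comp]
      congr 1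
    show R (ObjectProperty.homMk (pieceMap (m k)))
    rw [hq]
    exact R.downward_closed hg q
  · rw [Functor.mem_inducedTopology_iff_of_isCoverDense]
    refine (Scheme.ProEt.topology S).superset_covering ?_
      (generate_mem (fun k => (piece (m k)).obj) (fun k => pieceMap (m k)) ?_)
    · rw [Sieve.ofArrows, Sieve.generate_le_iff]
      rintro _ _ ⟨k⟩
      exact Sieve.image_mem_functorPushforward (incl S) _ (Sieve.ofArrows_mk _ _ k)
    · simp only [toSch_pieceMap]
      let 𝒱 : U.obj.left.Cover (Scheme.precoverage @WeaklyEtale) :=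
        { I₀ := Fin n
          X := fun k => (W k).toScheme
          f := m
          mem₀ := by
            rw [Scheme.presieve₀_mem_precoverage_iff]
            refine ⟨fun x => ?_, hm⟩
            have hx : x ∈ ⋃ k, 𝒰.f (a k) '' (W k : Set _) := by rw [hcov]; trivial
            obtain ⟨k, y, hy, rfl⟩ := Set.mem_iUnion.1 hx
            exact ⟨k, ⟨⟨y, hy⟩, by simp [m]⟩⟩ }
      haveI : ∀ k, AlgebraicGeometry.QuasiCompact (𝒱.f k) := fun k => inferInstanceAs (AlgebraicGeometry.QuasiCompact (m k))
      exact ⟨Scheme.presieve₀_mem_qcPrecoverage_iff.2 (QuasiCompactCover.of_finite (𝒰 := 𝒱)), 𝒱.mem₀⟩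

theorem hasEnoughPoints (S : Scheme.{u}) :
    GrothendieckTopology.HasEnoughPoints.{u + 1} (Scheme.ProEt.topology S) := by
  classical
  let K := Scheme.ProEt.topology S
  let I := Σ (V : AffProEt S), {R : Sieve V // R ∉ affTopology S V}
  choose Φ x hΦ using fun i : I => QCTopos.Deligne.exists_point.{u + 1, u} (finite_covers (S := S)) i.2.2
  let Ψ : I → GrothendieckTopology.Point.{u + 1} K := fun i => (Φ i).map (incl S) K
  refine ⟨⟨ObjectProperty.ofObj Ψ, inferInstance, ?_⟩⟩
  apply ObjectProperty.IsConservativeFamilyOfPoints.mk'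
  intro X R h
  by_contra hR
  have : ∃ (V : AffProEt S) (b : (incl S).obj V ⟶ X), R.pullback b ∉ K _ := by
    by_contra hno
    apply hR
    refine K.transitive ((incl S).is_cover_of_isCoverDense K X) R ?_
    rintro Y f ⟨⟨V, a, b, (e : a ≫ b = f)⟩⟩
    rw [← e, Sieve.pullback_comp]
    exact K.pullback_stable _ (by_contra fun hb => hno ⟨V, b, hb⟩)
  obtain ⟨V, b, hb⟩ := this
  let R₀ : Sieve V := (R.pullback b).functorPullback (incl S)
  have hR₀ : R₀ ∉ affTopology S V := fun hc => by
    rw [Functor.mem_inducedTopology_iff_of_isCoverDense] at hc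
    exact hb (K.superset_covering (Sieve.functorPushforward_le_iff_le_functorPullback _ _ _ |>.2 le_rfl) hc)
  let i : I := ⟨V, R₀, hR₀⟩
  let y : (Ψ i).fiber.obj X := GrothendieckTopology.Point.ofIsCofiltered.fiberMk.{u + 1}
    (p := CategoryOfElements.π (Φ i).fiber ⋙ incl S) (U := Functor.elementsMk _ V (x i)) b
  obtain ⟨Y, g, hg, z, hz⟩ := h ⟨Ψ i, ObjectProperty.ofObj_apply Ψ _⟩ y
  obtain ⟨W, c, rfl⟩ := GrothendieckTopology.Point.ofIsCofiltered.fiberMk_jointly_surjective.{u + 1}
    (p := CategoryOfElements.π (Φ i).fiber ⋙ incl S) z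
  obtain ⟨T, q₁, q₂, -⟩ := IsCofilteredOrEmpty.cone_objs (Functor.elementsMk (Φ i).fiber V (x i)) W
  have hz' : GrothendieckTopology.Point.ofIsCofiltered.fiberMk.{u + 1}
      ((CategoryOfElements.π (Φ i).fiber ⋙ incl S).map q₂ ≫ c ≫ g) =
      GrothendieckTopology.Point.ofIsCofiltered.fiberMk.{u + 1}
      ((CategoryOfElements.π (Φ i).fiber ⋙ incl S).map q₁ ≫ b) := by
    rw [GrothendieckTopology.Point.ofIsCofiltered.fiberMk_map_comp,
      GrothendieckTopology.Point.ofIsCofiltered.fiberMk_map_comp,
      ← GrothendieckTopology.Point.ofIsCofiltered.fiber_map_fiberMk]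
    exact hz
  obtain ⟨T', r, hr⟩ := GrothendieckTopology.Point.ofIsCofiltered.exists_of_fiberMk_eq_fiberMk hz'
  refine hΦ i T'.1 (r ≫ q₁).1 ?_ T'.2 (r ≫ q₁).2
  show R ((incl S).map (r ≫ q₁).1 ≫ b)
  have e : (incl S).map (r ≫ q₁).1 ≫ b =
      ((CategoryOfElements.π (Φ i).fiber ⋙ incl S).map r ≫ (CategoryOfElements.π (Φ i).fiber ⋙ incl S).map q₂ ≫ c) ≫ g := by
    simp only [Category.assoc]
    rw [hr, ← Category.assoc, ← Functor.map_comp]
    rfl
  rw [e]
  exact R.downward_closed hg _

end Groth.Agent.ProEtS
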